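import Groth.Agent.Sga2lef.H87.PullLocCoh
import Groth.Agent.EtpbcA.ArtinSupp
import Groth.Agent.Etcore.StalkUnit
import Groth.Agent.Pi1C.StrictHensConn
import Groth.Agent.Sga4h.LocCohLocal

/-!
# Generic points of the support of a section

`exists_not_isZero_secSupp` : a nonzero abelian étale sheaf `G` on `X` has a point `x` with a strict
henselization `R` of `O_{X,x}` such that the pull-back of `G` to `Spec R` has nonzero sections supported at the
closed point.
-/

set_option autoImplicit false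
universe u
open CategoryTheory CategoryTheory.Limits AlgebraicGeometry Opposite IsLocalRing

namespace Groth.Agent.Sga2lef.H87.GenSupp

open Groth.Agent.Etrest.StrictLoc Groth.Agent.Etrest.SHBase Groth.Agent.Sga4h.SLoc
  Groth.Agent.EtpbcA.Artin Groth.Agent.EtpbcA.Germ Groth.Agent.Sga4h.SecSupp
  Groth.Agent.Etbase.StalkPull

/-- A nonempty closed subset of a sober space has a maximal point above any of its points. -/
theorem exists_maximal_of_isClosed {T : Type*} [TopologicalSpace T] [QuasiSober T] [T0Space T] (Z : Set T)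
    (hZ : IsClosed Z) (v : T) (hv : v ∈ Z) :
    ∃ η ∈ Z, η ⤳ v ∧ ∀ η' ∈ Z, η' ⤳ η → η' = η := by
  have hq : QuasiSober Z := hZ.isClosedEmbedding_subtypeVal.quasiSober
  let v' : Z := ⟨v, hv⟩
  obtain ⟨η, hη⟩ := QuasiSober.sober (isIrreducible_irreducibleComponent (x := v'))
    isClosed_irreducibleComponent
  refine ⟨η.1, η.2, ?_, ?_⟩
  · have h1 : η ⤳ v' := by
      rw [specializes_iff_mem_closure]
      have : closure {η} = irreducibleComponent v' := hη
      rw [this]
      exact mem_irreducibleComponent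
    exact (Topology.IsInducing.subtypeVal.specializes_iff).2 h1
  · intro ζ hζ h
    let ζ' : Z := ⟨ζ, hζ⟩
    have h1 : ζ' ⤳ η := (Topology.IsInducing.subtypeVal.specializes_iff).1 h
    have h2 : closure {η} = irreducibleComponent v' := hη
    have h3 : irreducibleComponent v' ⊆ closure {ζ'} := by
      rw [← h2]
      exact h1.closure_subset
    have h4 : irreducibleComponent v' ∈ irreducibleComponents Z :=
      irreducibleComponent_mem_irreducibleComponents v'
    have h5 : closure {ζ'} ⊆ irreducibleComponent v' :=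
      h4.2 (isIrreducible_singleton.closure) h3
    have h6 : η ⤳ ζ' := by
      rw [specializes_iff_mem_closure, h2]
      exact h5 (subset_closure rfl)
    exact congrArg Subtype.val ((h1.antisymm h6).eq)

section

variable {X : Scheme.{u}} (G : EtCoh.Ab X)

/-- The points of `V` near which the section `s` vanishes étale-locally. -/
def zeroSet {V : X.Etale} (s : EtCoh.sect G V) : Set V.left :=
  {v | ∃ (W : X.Etale) (g : W ⟶ V), (∃ w : W.left, g.left w = v) ∧ G.obj.map g.op s = 0}

theorem isOpen_zeroSet {V : X.Etale} (s : EtCoh.sect G V) : IsOpen (zeroSet G s) := by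
  rw [isOpen_iff_forall_mem_open]
  rintro v ⟨W, g, ⟨w, hw⟩, h0⟩
  refine ⟨Set.range g.left, ?_, ?_, ⟨w, hw⟩⟩
  · rintro _ ⟨w', rfl⟩
    exact ⟨W, g, ⟨w', rfl⟩, h0⟩
  · have : Etale g.left := inferInstance
    exact g.left.isOpenMap.isOpen_range

variable {R : Type u} [CommRing R] {V : X.Etale} (s : EtCoh.sect G V)
  (ξ' : Spec (CommRingCat.of R) ⟶ V.left) (ξ : Spec (CommRingCat.of R) ⟶ X) (hξ : ξ' ≫ V.hom = ξ)

/-- The section of `V ×_X Spec R` given by `ξ'`. -/
noncomputable def secTop : EtCoh.top (Spec (CommRingCat.of R)) ⟶ (EtCoh.bc ξ).obj V :=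
  MorphismProperty.Over.homMk (pullback.lift ξ' (𝟙 _) (hξ.trans (Category.id_comp ξ).symm))
    (pullback.lift_snd _ _ _)

/-- The pulled back section. -/
noncomputable def pullSec : EtCoh.sect ((EtCoh.pull ξ).obj G) (EtCoh.top (Spec (CommRingCat.of R))) :=
  ((EtCoh.pull ξ).obj G).obj.map (secTop ξ' ξ hξ).op
    (((EtCoh.pullPushAdj ξ).unit.app G).hom.app (op V) s)

/-- The germ of the pulled back section at `z` vanishes iff `s` vanishes near `ξ' z`. -/
theorem exists_pullSec_eq_zero_iff (z : Spec (CommRingCat.of R)) :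
    (∃ (W : (Spec (CommRingCat.of R)).Etale) (g : W ⟶ EtCoh.top (Spec (CommRingCat.of R))),
      (∃ w : W.left, g.left w = z) ∧
        ((EtCoh.pull ξ).obj G).obj.map g.op (pullSec G s ξ' ξ hξ) = 0) ↔ ξ' z ∈ zeroSet G s := by
  obtain ⟨Ω, _, _, ζ, hζ⟩ := Groth.Agent.EtpbcA.Germ.exists_geomPt_aux (Spec (CommRingCat.of R)) z
  let T := (EtCoh.pull ξ).obj G
  -- the fibre point of `top` over `ζ`
  let t0 : Fib ζ (EtCoh.top (Spec (CommRingCat.of R))) := Over.homMk ζ (Category.comp_id _)
  have ht0 : pt ζ t0 = z := hζ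
  -- the fibre point of `V` over `ζ ≫ ξ`
  let v0 : Fib (ζ ≫ ξ) V := Over.homMk (ζ ≫ ξ') (by
    change (ζ ≫ ξ') ≫ V.hom = ζ ≫ ξ
    rw [Category.assoc, hξ])
  have hv0 : pt (ζ ≫ ξ) v0 = ξ' z := by
    change (ζ ≫ ξ') default = ξ' z
    rw [Scheme.Hom.comp_apply, hζ]
  have hfib : fmap ζ (secTop ξ' ξ hξ) t0 = (fiberIso ξ ζ).hom.app V v0 := by
    apply Over.OverMorphism.ext
    change ζ ≫ pullback.lift ξ' (𝟙 _) _ = pullback.lift (ζ ≫ ξ') ζ _
    apply pullback.hom_ext
    · rw [Category.assoc, pullback.lift_fst, pullback.lift_fst]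
    · rw [Category.assoc, pullback.lift_snd, pullback.lift_snd, Category.comp_id]
  have key : germ ζ T t0 (pullSec G s ξ' ξ hξ) = germ ζ T t0 0 ↔
      germ (ζ ≫ ξ) G v0 s = germ (ζ ≫ ξ) G v0 0 := by
    have k1 := Groth.Agent.Etcore.StalkUnit.germ_unit_eq_iff ξ ζ G v0 s 0
    have e1 : germ ζ T t0 (pullSec G s ξ' ξ hξ) = germ ζ T (fmap ζ (secTop ξ' ξ hξ) t0)
        (((EtCoh.pullPushAdj ξ).unit.app G).hom.app (op V) s) := germ_res ζ T _ t0 _
    have e2 : germ ζ T t0 0 = germ ζ T (fmap ζ (secTop ξ' ξ hξ) t0)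
        (((EtCoh.pullPushAdj ξ).unit.app G).hom.app (op V) 0) := by
      rw [map_zero (germ ζ T t0)]
      have h0 : ((EtCoh.pullPushAdj ξ).unit.app G).hom.app (op V) 0 = 0 :=
        map_zero (((EtCoh.pullPushAdj ξ).unit.app G).hom.app (op V)).hom
      rw [h0]
      exact (map_zero (germ ζ T _)).symm
    rw [e1, e2, hfib]
    exact k1
  constructor
  · rintro ⟨W, g, ⟨w, hw⟩, h0⟩
    obtain ⟨w', hw', -⟩ := exists_lift ζ g t0 w (by rw [ht0, hw])
    have h1 : germ ζ T t0 (pullSec G s ξ' ξ hξ) = germ ζ T t0 0 := by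
      rw [← hw', ← germ_res, h0, map_zero, map_zero]
    obtain ⟨W', g', w'', h2, h3⟩ := (germ_eq_iff (ζ ≫ ξ) G v0 s 0).1 (key.1 h1)
    refine ⟨W', g', ⟨pt _ w'', ?_⟩, ?_⟩
    · rw [← pt_fmap, h2, hv0]
    · rw [h3]; exact map_zero _
  · rintro ⟨W, g, ⟨w, hw⟩, h0⟩
    obtain ⟨w', hw', -⟩ := exists_lift (ζ ≫ ξ) g v0 w (by rw [hv0, hw])
    have h1 : germ (ζ ≫ ξ) G v0 s = germ (ζ ≫ ξ) G v0 0 := by
      rw [← hw', ← germ_res, h0, map_zero, map_zero]
    obtain ⟨W', g', w'', h2, h3⟩ := (germ_eq_iff ζ T t0 _ 0).1 (key.2 h1)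
    refine ⟨W', g', ⟨pt _ w'', ?_⟩, ?_⟩
    · rw [← pt_fmap, h2, ht0]
    · rw [h3]; exact map_zero _

end

/-- A nonzero abelian étale sheaf has nonzero sections supported at the closed point of some strict localization. -/
theorem exists_not_isZero_secSupp {X : Scheme.{u}} (G : EtCoh.Ab X) (hG : ¬ IsZero G) :
    ∃ (x : X) (R : Type u) (_ : CommRing R) (_ : IsLocalRing R) (_ : Algebra (X.presheaf.stalk x) R)
      (_ : IsLocalHom (algebraMap (X.presheaf.stalk x) R))
      (_ : Hensel.IsStrictHenselization (X.presheaf.stalk x) R),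
      x ∈ EtPBC.supp G ∧
      ¬ IsZero ((EtDual.secSupp (FEt.puncturedSpec R).ι).obj ((EtCoh.pull (Hens2.specOf X x R)).obj G)) := by
  obtain ⟨x₀, hx₀⟩ : ∃ x₀, x₀ ∈ EtPBC.supp G := by
    by_contra h
    exact hG (isZero_of_forall G fun x hx => h ⟨x, hx⟩)
  have hx₁ : ¬ VanAt G x₀ := fun h => (not_mem_supp_iff G x₀).2 h hx₀
  unfold VanAt at hx₁
  push Not at hx₁
  obtain ⟨V, s, v, hv, hs⟩ := hx₁
  have hvZ : v ∈ (zeroSet G s)ᶜ := by
    rintro ⟨W, g, hw, h0⟩
    exact hs W g hw h0
  obtain ⟨η, hηZ, -, hmax⟩ := exists_maximal_of_isClosed (zeroSet G s)ᶜ (isOpen_zeroSet G s).isClosed_compl v hvZ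
  obtain ⟨R, _, _, _, _, hR, -⟩ := Groth.Agent.Hensel.Exist.exists_isStrictHenselization (V.left.presheaf.stalk η)
  let ξ' : Spec (CommRingCat.of R) ⟶ V.left := Hens2.specOf V.left η R
  have hξ' : IsStrictLoc ξ' := isStrictLoc_specOf V.left η R
  let q : V.left ⟶ X := V.hom
  have het : Etale q := V.prop
  have hwe : WeaklyEtale q := etale_le_weaklyEtale _ _ _ het
  let ξ : Spec (CommRingCat.of R) ⟶ X := ξ' ≫ q
  have hξ : IsStrictLoc ξ :=
    Groth.Agent.Sga4h.SLocTrans88.isStrictLoc_comp_of_weaklyEtale q hwe hξ'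
  obtain ⟨x, _, _, hx, hx1, hx2⟩ := exists_sh hξ
  have hcl : ξ' (closedPoint R) = η := Groth.Agent.Pi1C.StrictHensConn.specOf_closedPoint V.left η R
  have hxη : x = q η := by
    rw [hx2]
    change (ξ' ≫ q) (closedPoint R) = q η
    rw [Scheme.Hom.comp_apply, hcl]
  refine ⟨x, R, inferInstance, inferInstance, inferInstance, inferInstance, hx, ?_, ?_⟩
  · by_contra hxs
    rw [not_mem_supp_iff] at hxs
    obtain ⟨W, g, hw, h0⟩ := hxs V s η hxη.symm
    exact hηZ ⟨W, g, hw, h0⟩
  · intro hzero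
    let T := (EtCoh.pull (Hens2.specOf X x R)).obj G
    let i := (FEt.puncturedSpec R).ι
    have hmono : Mono (EtDual.unitApp i T) :=
      (Preadditive.mono_iff_isZero_kernel (EtDual.unitApp i T)).2 hzero
    let t := pullSec G s ξ' (Hens2.specOf X x R) hx1.symm
    have ht0 : (EtDual.unitApp i T).hom.app (op (EtCoh.top _)) t = 0 := by
      rw [Groth.Agent.Sga4h.LocCohLocal.unit_eq_zero_iff]
      rintro W g ⟨a, ha⟩
      refine sect_ext_germ T _ _ fun Ω _ _ ζ τ => ?_
      rw [germ_res]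
      -- the image of the geometric point in `Spec R` is not the closed point
      let z : Spec (CommRingCat.of R) := pt ζ (fmap ζ g τ)
      have hz : z ≠ closedPoint R := by
        have h1 : z = i (a (pt ζ τ)) := by
          have h2 : g.left ≫ 𝟙 _ = W.hom := MorphismProperty.Over.w g
          have h3 : g.left = a ≫ i := by rw [ha, ← h2, Category.comp_id]
          change g.left (pt ζ τ) = _
          rw [h3]
          rfl
        rw [h1]
        exact (a (pt ζ τ)).2
      have hzA : ξ' z ∈ zeroSet G s := by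
        by_contra hzA
        have h1 : ξ' z ⤳ η := by
          rw [← hcl]
          exact (specializes_closedPoint z).map ξ'.continuous
        have h2 := hmax (ξ' z) hzA h1
        exact hz (Groth.Agent.Pi1C.StrictHensConn.eq_closedPoint_of_specOf_eq V.left η R z h2)
      obtain ⟨W', g', ⟨w', hw'⟩, h0⟩ :=
        (exists_pullSec_eq_zero_iff G s ξ' (Hens2.specOf X x R) hx1.symm z).2 hzA
      obtain ⟨τ', hτ', -⟩ := exists_lift ζ g' (fmap ζ g τ) w' hw'
      rw [← hτ', ← germ_res, h0, map_zero, map_zero]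
    have ht : t = 0 := by
      have hinj : Function.Injective ((EtDual.unitApp i T).hom.app (op (EtCoh.top _))) := by
        have h1 : Mono ((sheafToPresheaf _ _).map (EtDual.unitApp i T)) := inferInstance
        have h2 : Mono (((sheafToPresheaf _ _).map (EtDual.unitApp i T)).app
          (op (EtCoh.top (Spec (CommRingCat.of R))))) := inferInstance
        exact (AddCommGrpCat.mono_iff_injective _).1 h2
      apply hinj
      rw [ht0, map_zero]
    have h1 : ξ' (closedPoint R) ∈ zeroSet G s := by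
      refine (exists_pullSec_eq_zero_iff G s ξ' (Hens2.specOf X x R) hx1.symm (closedPoint R)).1 ?_
      refine ⟨EtCoh.top _, 𝟙 _, ⟨closedPoint R, rfl⟩, ?_⟩
      change T.obj.map (𝟙 _) t = 0
      rw [ht]
      exact map_zero _
    rw [hcl] at h1
    exact hηZ h1

end Groth.Agent.Sga2lef.H87.GenSupp
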