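import Groth.Prelude.Def_EtDepth
import Groth.Agent.Sga2lef.H87.GenSupp
import Groth.Agent.Sga4B.ClosedSupp

/-!
# The étale depth is computed on strict localizations
-/

set_option autoImplicit false
universe u
open CategoryTheory CategoryTheory.Limits AlgebraicGeometry Opposite IsLocalRing

namespace Groth.Agent.Sga2lef.H87.DepthLocal

open Groth.Agent.Etrest.StrictLoc Groth.Agent.Sga4h.SLoc Groth.Agent.Sga2lef.H87.PullLocCoh
  Groth.Agent.Sga2lef.H87.GenSupp Groth.Agent.EtpbcA.Artin

section

variable {X U : Scheme.{u}} (j : U ⟶ X) (x : X) (R : Type u) [CommRing R] [IsLocalRing R]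
  [Algebra (X.presheaf.stalk x) R] [IsLocalHom (algebraMap (X.presheaf.stalk x) R)]

/-- The preimage of `U` in the strict localization at a point off `U` lies in the punctured spectrum. -/
theorem exists_fac (hx : x ∉ Set.range j.base) :
    ∃ a : pullback j (Hens2.specOf X x R) ⟶ (FEt.puncturedSpec R : Scheme.{u}),
      a ≫ (FEt.puncturedSpec R).ι = pullback.snd j (Hens2.specOf X x R) := by
  refine ⟨IsOpenImmersion.lift (FEt.puncturedSpec R).ι (pullback.snd j (Hens2.specOf X x R)) ?_,
    IsOpenImmersion.lift_fac _ _ _⟩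
  rintro _ ⟨z, rfl⟩
  rw [Scheme.Opens.range_ι]
  intro hz
  apply hx
  have h1 : pullback.snd j (Hens2.specOf X x R) z = closedPoint R := hz
  have h2 : (pullback.fst j (Hens2.specOf X x R) ≫ j) z = x := by
    rw [pullback.condition, Scheme.Hom.comp_apply, h1]
    exact Groth.Agent.Pi1C.StrictHensConn.specOf_closedPoint X x R
  exact ⟨pullback.fst j (Hens2.specOf X x R) z, h2⟩

end

/-- The étale depth along a closed subset with retrocompact complement is computed on strict localizations. -/
theorem depthGE_iff {X U : Scheme.{u}} (j : U ⟶ X) [IsOpenImmersion j] [QuasiCompact j] [EtCoh.BCCont j]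
    (F : EtCoh.Ab X) (n : ℕ) :
    EtDepth.DepthGE j F n ↔ ∀ y : X, y ∉ Set.range j.base → EtDepth.DepthAtGE X F y n := by
  -- comparison over a strict localization
  have key : ∀ (y : X) (_ : y ∉ Set.range j.base) (R : Type u) [CommRing R] [IsLocalRing R]
      [Algebra (X.presheaf.stalk y) R] [IsLocalHom (algebraMap (X.presheaf.stalk y) R)]
      [Hensel.IsStrictHenselization (X.presheaf.stalk y) R] (q : ℕ)
      (_ : ∀ p : ℕ, p < q → IsZero ((EtDual.locCoh j p).obj F)),
      Nonempty ((EtDual.locCoh (FEt.puncturedSpec R).ι q).obj ((EtCoh.pull (Hens2.specOf X y R)).obj F) ≅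
        (EtDual.secSupp (FEt.puncturedSpec R).ι).obj
          ((EtCoh.pull (Hens2.specOf X y R)).obj ((EtDual.locCoh j q).obj F))) := by
    intro y hy R _ _ _ _ _ q hlow
    have hwe : WeaklyEtale (Hens2.specOf X y R) := Groth.Agent.S0754.result X y R
    have hsq : IsPullback (pullback.fst j (Hens2.specOf X y R)) (pullback.snd j (Hens2.specOf X y R)) j
      (Hens2.specOf X y R) := IsPullback.of_hasPullback _ _
    obtain ⟨a, ha⟩ := exists_fac j y R hy
    obtain ⟨e1⟩ := nonempty_locCoh_iso_of_low (pullback.snd j (Hens2.specOf X y R)) (FEt.puncturedSpec R).ι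
      a ha ((EtCoh.pull (Hens2.specOf X y R)).obj F) q (fun p hp => by
        obtain ⟨e⟩ := nonempty_pull_locCoh_iso hsq F p
        exact ((EtCoh.pull (Hens2.specOf X y R)).map_isZero (hlow p hp)).of_iso e.symm)
    obtain ⟨e2⟩ := nonempty_pull_locCoh_iso hsq F q
    exact ⟨e1 ≪≫ (EtDual.secSupp (FEt.puncturedSpec R).ι).mapIso e2.symm⟩
  constructor
  · intro h y hy R _ _ _ _ _ p hp
    obtain ⟨e⟩ := key y hy R p (fun p' hp' => h p' (hp'.trans hp))
    refine IsZero.of_iso ?_ e
    exact (EtDual.secSupp (FEt.puncturedSpec R).ι).map_isZero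
      ((EtCoh.pull (Hens2.specOf X y R)).map_isZero (h p hp))
  · intro h q
    induction q using Nat.strong_induction_on with
    | _ q ih =>
    intro hq
    by_contra hG
    obtain ⟨x, R, _, _, _, _, _, hx, hne⟩ := exists_not_isZero_secSupp _ hG
    apply hne
    -- `x` is not in `U`
    have hxU : x ∉ Set.range j.base := by
      rintro ⟨w, rfl⟩
      have h1 : IsZero ((EtCoh.pull j).obj ((EtDual.locCoh j q).obj F)) :=
        Groth.Agent.Sga4B.ClosedSupp.isZero_pull_locCoh j q F
      have h2 := supp_eq_empty_of_isZero h1 w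
      rw [supp_pull] at h2
      exact h2 hx
    obtain ⟨e⟩ := key x hxU R q (fun p hp => ih p hp (hp.trans hq))
    exact (h x hxU R q hq).of_iso e.symm

end Groth.Agent.Sga2lef.H87.DepthLocal
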