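import Groth.Agent.Sga4B.SuppFun
import Groth.Agent.S0674
import Groth.Agent.Sga4h.SLocTrans88
import Groth.Agent.Sga4h.NcLimEt
import Groth.Agent.Sga4h.LocCohLES
import Groth.Agent.Etcore.ShriekBasic
import Groth.Agent.Sga4h.Edge
import Groth.Agent.Sga4h.RDExact

/-!
# Local cohomology sheaves commute with weakly étale base change

* `isIso_baseChange0_of_weaklyEtale` : degree zero base change along weakly étale morphisms;
* `secSuppPullIso` : `g^* Γ_Y ≅ Γ_{Y'} g^*`;
* `nonempty_pull_locCoh_iso` : `g^* H^q_Y(F) ≅ H^q_{Y'}(g^* F)` for `g` weakly étale and `j` a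
  quasi-compact open immersion;
* `nonempty_locCoh_iso_of_low` : `H^q_Z(F) ≅ Γ_Z(H^q_Y(F))` for `Z ⊆ Y` if `H^p_Y(F) = 0` for `p < q`.
-/

set_option autoImplicit false
universe u
open CategoryTheory CategoryTheory.Limits AlgebraicGeometry Opposite IsLocalRing

namespace Groth.Agent.Sga2lef.H87.PullLocCoh

open Groth.Agent.Etrest.StrictLoc Groth.Agent.Etrest.SHBase Groth.Agent.Sga4h.SLoc
  Groth.Agent.Sga4B.SuppFun Groth.Agent.EtpbcB Groth.Agent.Sga4h.SecSupp

/-- Degree zero base change along weakly étale morphisms. -/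
theorem isIso_baseChange0_of_weaklyEtale {X X' T Y : Scheme.{u}} (g : X' ⟶ X) [hg : WeaklyEtale g]
    (f : T ⟶ X) [QuasiCompact f] [QuasiSeparated f] (f' : Y ⟶ X') (g' : Y ⟶ T)
    (hsq : IsPullback g' f' f g) (F : EtCoh.Ab T) :
    IsIso (EtCoh.baseChange0 f g f' g' hsq.w F) := by
  refine Groth.Agent.S0674.result g ?_ f f' g' hsq F
  intro x RS _ _ _ _ _ RX _ _ _ _ _ ψ _ hψ Ω _ _ η
  have h1 : IsStrictLoc (Hens2.specOf X (g.base x) RS) := isStrictLoc_specOf X (g.base x) RS
  have h2 : IsStrictLoc (Hens2.specOf X' x RX) := isStrictLoc_specOf X' x RX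
  have h3 : IsStrictLoc (Hens2.specOf X' x RX ≫ g) :=
    Groth.Agent.Sga4h.SLocTrans88.isStrictLoc_comp_of_weaklyEtale g hg h2
  have h4 : spm ψ ≫ Hens2.specOf X (g.base x) RS = Hens2.specOf X' x RX ≫ g := by
    have e1 : spm ψ ≫ spm (algebraMap (X.presheaf.stalk (g.base x)) RS) =
        spm (algebraMap (X'.presheaf.stalk x) RX) ≫ Spec.map (g.stalkMap x) := by
      rw [← spm_comp, hψ, spm_comp]
      rfl
    calc spm ψ ≫ spm (algebraMap (X.presheaf.stalk (g.base x)) RS) ≫ X.fromSpecStalk (g.base x) =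
        (spm ψ ≫ spm (algebraMap (X.presheaf.stalk (g.base x)) RS)) ≫ X.fromSpecStalk (g.base x) :=
          (Category.assoc _ _ _).symm
      _ = spm (algebraMap (X'.presheaf.stalk x) RX) ≫ Spec.map (g.stalkMap x) ≫
          X.fromSpecStalk (g.base x) := by rw [e1]; exact Category.assoc _ _ _
      _ = spm (algebraMap (X'.presheaf.stalk x) RX) ≫ X'.fromSpecStalk x ≫ g :=
          congrArg (fun z => spm (algebraMap (X'.presheaf.stalk x) RX) ≫ z)
            (Scheme.SpecMap_stalkMap_fromSpecStalk g)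
      _ = _ := (Category.assoc _ _ _).symm
  have hb : Function.Bijective ψ := h1.bijective h3 ψ h4
  have hiso : IsIso (Spec.map (CommRingCat.ofHom ψ)) := by
    have : IsIso (CommRingCat.ofHom ψ) := (ConcreteCategory.isIso_iff_bijective _).2 hb
    infer_instance
  have h5 : IsIso (pullback.snd (Spec.map (CommRingCat.ofHom ψ)) η) := inferInstance
  have h6 : ConnectedSpace (Spec (CommRingCat.of Ω)) := inferInstance
  exact (asIso (pullback.snd (Spec.map (CommRingCat.ofHom ψ)) η)).schemeIsoToHomeo.symm.surjective.connectedSpace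
    (asIso (pullback.snd (Spec.map (CommRingCat.ofHom ψ)) η)).schemeIsoToHomeo.symm.continuous

section

variable {X X' U U' : Scheme.{u}} {j : U ⟶ X} {g : X' ⟶ X} {j' : U' ⟶ X'} {g' : U' ⟶ U}

/-- `j'^* g^* ≅ g'^* j^*`. -/
noncomputable def pullSqIso (w : g' ≫ j = j' ≫ g) :
    EtCoh.pull g ⋙ EtCoh.pull j' ≅ EtCoh.pull j ⋙ EtCoh.pull g' :=
  Groth.Agent.EtpbcA.PullFLC.pullComp j' g ≪≫ Groth.Agent.EtpbcA.PullFLC.pullCongr w.symm ≪≫
    (Groth.Agent.EtpbcA.PullFLC.pullComp g' j).symm

/-- A morphism into a direct image is zero if its restriction is. -/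
theorem eq_zero_of_pull_eq_zero (j' : U' ⟶ X') {A : EtCoh.Ab X'} {B : EtCoh.Ab U'}
    (f : A ⟶ (EtCoh.push j').obj B) (hf : (EtCoh.pull j').map f = 0) : f = 0 := by
  apply ((EtCoh.pullPushAdj j').homEquiv _ _).symm.injective
  rw [Adjunction.homEquiv_counit, Adjunction.homEquiv_counit, hf, Functor.map_zero]

/-- `g^* Γ_Y ≅ Γ_{Y'} g^*` for `g` weakly étale, `j` quasi-compact. -/
noncomputable def secSuppPullIso [IsOpenImmersion j] [IsOpenImmersion j'] [QuasiCompact j]
    [WeaklyEtale g] (hsq : IsPullback g' j' j g) :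
    EtDual.secSupp j ⋙ EtCoh.pull g ≅ EtCoh.pull g ⋙ EtDual.secSupp j' :=
  haveI : PreservesFiniteLimits (EtCoh.pull g) := S0101.result g
  haveI : PreservesFiniteLimits (EtCoh.pull j') := S0101.result j'
  isoOfMonos (Q := EtCoh.pull g)
    (Functor.whiskerRight (incl j) (EtCoh.pull g) ≫ (EtCoh.pull g).leftUnitor.hom)
    (Functor.whiskerLeft (EtCoh.pull g) (incl j') ≫ (EtCoh.pull g).rightUnitor.hom)
    (fun M => by
      change Mono ((EtCoh.pull g).map ((incl j).app M) ≫ 𝟙 _)
      rw [Category.comp_id]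
      infer_instance)
    (fun M => by
      change Mono ((incl j').app ((EtCoh.pull g).obj M) ≫ 𝟙 _)
      rw [Category.comp_id]
      infer_instance)
    (fun M => by
      have h1 : (EtCoh.pull g).map ((incl j).app M) ≫ EtDual.unitApp j' ((EtCoh.pull g).obj M) = 0 := by
        refine (comp_unit_eq_zero_iff_pull j' _).2 ?_
        exact map_eq_zero_of_iso (pullSqIso hsq.w).symm ((incl j).app M) (by
          change (EtCoh.pull g').map ((EtCoh.pull j).map ((incl j).app M)) = 0
          rw [pull_map_incl, Functor.map_zero])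
      refine ⟨kernel.lift _ _ h1, ?_⟩
      change kernel.lift _ _ h1 ≫ (kernel.ι _ ≫ 𝟙 _) = (EtCoh.pull g).map ((incl j).app M) ≫ 𝟙 _
      rw [Category.comp_id, Category.comp_id, kernel.lift_ι])
    (fun M => by
      have h1 : (incl j').app ((EtCoh.pull g).obj M) ≫ (EtCoh.pull g).map (EtDual.unitApp j M) = 0 := by
        have hiso := isIso_baseChange0_of_weaklyEtale g j j' g' hsq ((EtCoh.pull j).obj M)
        rw [← cancel_mono (EtCoh.baseChange0 j g j' g' hsq.w ((EtCoh.pull j).obj M)), zero_comp]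
        apply eq_zero_of_pull_eq_zero
        rw [Category.assoc, Functor.map_comp, pull_map_incl, zero_comp]
      let hk := isLimitForkMapOfIsLimit' (EtCoh.pull g) (kernel.condition (EtDual.unitApp j M))
        (kernelIsKernel (EtDual.unitApp j M))
      refine ⟨hk.lift (KernelFork.ofι _ h1), ?_⟩
      have := hk.fac (KernelFork.ofι _ h1) WalkingParallelPair.zero
      change _ ≫ ((EtCoh.pull g).map (kernel.ι (EtDual.unitApp j M)) ≫ 𝟙 _) =
        (incl j').app ((EtCoh.pull g).obj M) ≫ 𝟙 _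
      rw [Category.comp_id, Category.comp_id]
      exact this)

/-- The unit of `j'` at `g^* I` is an epimorphism if the unit of `j` at `I` is. -/
theorem epi_unit_pull [IsOpenImmersion j] [IsOpenImmersion j'] [QuasiCompact j]
    [WeaklyEtale g] (hsq : IsPullback g' j' j g) (I : EtCoh.Ab X) (hI : Epi (EtDual.unitApp j I)) :
    Epi (EtDual.unitApp j' ((EtCoh.pull g).obj I)) := by
  have hiso := isIso_baseChange0_of_weaklyEtale g j j' g' hsq ((EtCoh.pull j).obj I)
  -- the map `a : g^* I → g^* j_* j^* I ≅ j'_* g'^* j^* I`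
  let a : (EtCoh.pull g).obj I ⟶ (EtCoh.push j').obj ((EtCoh.pull g').obj ((EtCoh.pull j).obj I)) :=
    (EtCoh.pull g).map (EtDual.unitApp j I) ≫
      EtCoh.baseChange0 j g j' g' hsq.w ((EtCoh.pull j).obj I)
  have hpa : PreservesFiniteColimits (EtCoh.pull g) :=
    Groth.Agent.Sga4h.PushDer.pull_preservesFiniteColimits g
  have ha : Epi a := by
    have h0 : Epi ((EtCoh.pull g).map (EtDual.unitApp j I)) := inferInstance
    exact epi_comp _ _
  -- `j'^* a` is an isomorphism
  have hja : IsIso ((EtCoh.pull j').map a) := by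
    have h1 : IsIso ((EtCoh.pull j).map (EtDual.unitApp j I)) := by
      have h2 := (EtCoh.pullPushAdj j).left_triangle_components I
      have h3 : IsIso ((EtCoh.pullPushAdj j).counit.app ((EtCoh.pull j).obj I)) := inferInstance
      exact IsIso.of_isIso_fac_right h2
    have h4 : IsIso ((EtCoh.pull g').map ((EtCoh.pull j).map (EtDual.unitApp j I))) := inferInstance
    have h5 : IsIso ((EtCoh.pull j').map ((EtCoh.pull g).map (EtDual.unitApp j I))) := by
      have h6 := (pullSqIso hsq.w).hom.naturality (EtDual.unitApp j I)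
      have h7 : IsIso ((EtCoh.pull j ⋙ EtCoh.pull g').map (EtDual.unitApp j I)) := h4
      have h8 : IsIso ((EtCoh.pull g ⋙ EtCoh.pull j').map (EtDual.unitApp j I) ≫
          (pullSqIso hsq.w).hom.app _) := by
        rw [h6]
        infer_instance
      have h9 : IsIso ((EtCoh.pull g ⋙ EtCoh.pull j').map (EtDual.unitApp j I)) :=
        IsIso.of_isIso_comp_right _ ((pullSqIso hsq.w).hom.app _)
      exact h9
    change IsIso ((EtCoh.pull j').map (_ ≫ _))
    rw [Functor.map_comp]
    infer_instance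
  -- `a = unit ≫ j'_*(a♭)` with `a♭` an isomorphism
  let b : (EtCoh.pull j').obj ((EtCoh.pull g).obj I) ⟶ (EtCoh.pull g').obj ((EtCoh.pull j).obj I) :=
    (EtCoh.pull j').map a ≫ (EtCoh.pullPushAdj j').counit.app _
  have hb : IsIso b := by
    have : IsIso ((EtCoh.pullPushAdj j').counit.app ((EtCoh.pull g').obj ((EtCoh.pull j).obj I))) :=
      inferInstance
    infer_instance
  have hab : EtDual.unitApp j' ((EtCoh.pull g).obj I) ≫ (EtCoh.push j').map b = a := by
    have h1 := ((EtCoh.pullPushAdj j').homEquiv ((EtCoh.pull g).obj I)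
      ((EtCoh.pull g').obj ((EtCoh.pull j).obj I))).right_inv a
    have h2 : ((EtCoh.pullPushAdj j').homEquiv ((EtCoh.pull g).obj I)
      ((EtCoh.pull g').obj ((EtCoh.pull j).obj I))).symm a = b := Adjunction.homEquiv_counit _ _ _ _
    rw [← Adjunction.homEquiv_unit, ← h2]
    exact h1
  have hfin : Epi (EtDual.unitApp j' ((EtCoh.pull g).obj I) ≫ (EtCoh.push j').map b) := by
    rw [hab]; exact ha
  have h9 : EtDual.unitApp j' ((EtCoh.pull g).obj I) =
      (EtDual.unitApp j' ((EtCoh.pull g).obj I) ≫ (EtCoh.push j').map b) ≫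
        inv ((EtCoh.push j').map b) := by
    rw [Category.assoc, IsIso.hom_inv_id, Category.comp_id]
  rw [h9]
  exact epi_comp _ _

/-- `H^q_{Y'}(g^* I) = 0` for `q > 0` and `I` injective. -/
theorem isZero_locCoh_pull_injective [IsOpenImmersion j] [IsOpenImmersion j'] [QuasiCompact j]
    [WeaklyEtale g] (hsq : IsPullback g' j' j g) (I : EtCoh.Ab X) [Injective I] (q : ℕ) :
    IsZero ((EtDual.locCoh j' (q + 1)).obj ((EtCoh.pull g).obj I)) := by
  rcases q with _ | q
  · rw [Groth.Agent.Sga4h.LocCohLES.isZero_locCoh_one_iff]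
    exact epi_unit_pull hsq I (Groth.Agent.Sga4h.LocCohLES.epi_unit_of_injective j I)
  · refine IsZero.of_iso ?_ (Groth.Agent.Sga4h.LocCohLES.locCohSuccIso j' ((EtCoh.pull g).obj I) q).symm
    have h1 : Injective ((EtCoh.pull j).obj I) := Groth.Agent.Sga4h.PullInj.injective_pull j I
    have h2 : IsZero ((EtCoh.Rpush j (q + 1)).obj ((EtCoh.pull j).obj I)) :=
      Functor.isZero_rightDerived_obj_injective_succ _ _ _
    have h3 := Groth.Agent.Sga4h.NcLimEt.isZero_Rpush_pull j g j' g' hsq ((EtCoh.pull j).obj I) (q + 1) h2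
    exact h3.of_iso ((EtCoh.Rpush j' (q + 1)).mapIso ((pullSqIso hsq.w).app I))

/-- **Local cohomology sheaves commute with weakly étale base change.** -/
theorem nonempty_pull_locCoh_iso [IsOpenImmersion j] [IsOpenImmersion j'] [QuasiCompact j]
    [WeaklyEtale g] (hsq : IsPullback g' j' j g) (F : EtCoh.Ab X) (q : ℕ) :
    Nonempty ((EtCoh.pull g).obj ((EtDual.locCoh j q).obj F) ≅
      (EtDual.locCoh j' q).obj ((EtCoh.pull g).obj F)) := by
  have i1 : PreservesFiniteLimits (EtCoh.pull g) := Groth.Agent.S0101.result g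
  have i2 : PreservesFiniteLimits (EtDual.secSupp j) :=
    Groth.Agent.Sga4h.LocCohLES.preservesFiniteLimits_secSupp j
  have i3 : PreservesFiniteLimits (EtDual.secSupp j') :=
    Groth.Agent.Sga4h.LocCohLES.preservesFiniteLimits_secSupp j'
  have i4 : PreservesFiniteColimits (EtCoh.pull g) :=
    Groth.Agent.Sga4h.PushDer.pull_preservesFiniteColimits g
  refine Etrest.Eff.nonempty_iso (EtDual.secSupp j) (EtCoh.pull g) (EtCoh.pull g) (EtDual.secSupp j')
    (secSuppPullIso hsq) (fun _ => True) (fun _ _ _ => trivial)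
    (fun F _ => ⟨Injective.under F, Injective.ι F, inferInstance, trivial,
      fun q hq => ⟨?_, ?_⟩⟩) F trivial q
  · obtain ⟨q, rfl⟩ := Nat.exists_eq_succ_of_ne_zero hq.ne'
    exact Functor.isZero_rightDerived_obj_injective_succ _ _ _
  · obtain ⟨q, rfl⟩ := Nat.exists_eq_succ_of_ne_zero hq.ne'
    exact isZero_locCoh_pull_injective hsq _ q

end

section Comp

variable {X U W : Scheme.{u}} (jU : U ⟶ X) (jW : W ⟶ X) [IsOpenImmersion jU] [IsOpenImmersion jW]
  (a : U ⟶ W) (w : a ≫ jW = jU)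

include w in
/-- `H^q_Z(F) ≅ Γ_Z(H^q_Y(F))` for `Z ⊆ Y` if `H^p_Y(F) = 0` for `p < q`. -/
theorem nonempty_locCoh_iso_of_low (F : EtCoh.Ab X) (q : ℕ)
    (hlow : ∀ p : ℕ, p < q → IsZero ((EtDual.locCoh jU p).obj F)) :
    Nonempty ((EtDual.locCoh jW q).obj F ≅ (EtDual.secSupp jW).obj ((EtDual.locCoh jU q).obj F)) := by
  have e1 : ((EtDual.secSupp jU ⋙ EtDual.secSupp jW).rightDerived q).obj F ≅ (EtDual.locCoh jW q).obj F :=
    (Groth.Agent.Sga4h.RDExact.congrIso (secSuppCompIso jU jW a w) q).app F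
  have i3 : PreservesFiniteLimits (EtDual.secSupp jW) :=
    Groth.Agent.Sga4h.LocCohLES.preservesFiniteLimits_secSupp jW
  have e2 : ((EtDual.secSupp jU ⋙ EtDual.secSupp jW).rightDerived q).obj F ≅
      (EtDual.secSupp jW).obj ((EtDual.locCoh jU q).obj F) :=
    Groth.Agent.Sga4h.Edge.rightDerivedCompIso (EtDual.secSupp jU) (EtDual.secSupp jW)
      (fun I hI => Groth.Agent.Sga4h.SecSupp.injective_secSupp jU I) F q hlow
  exact ⟨e1.symm ≪≫ e2⟩

end Comp

end Groth.Agent.Sga2lef.H87.PullLocCoh
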